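import Cfsg.Agent.H573.Spor.Co0

/-!
# Elements of `Co₃` for the row `Co₃` of S3010: the matrices (helper791)

Elements of `Co₀` (24 × 24 integer matrices divided by 8) fixing the vector `leechV`.  Generated by a script; checked by
the kernel.  Letters: 0 = `a` (2B), 1 = `b` (2B), 2 = `x` (5B), 3 = `v` (2A), 4 = order 7, 5 = order 11, 6 = `t` (2B).
-/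

set_option autoImplicit false
set_option maxRecDepth 100000

namespace Cfsg.Agent.H791.SK.Co3Dat

open Cfsg Cfsg.Agent.SporadicStructure.Co0Matrix Cfsg.Agent.CoOneType.CoEval

/-- rows of `a` -/
def r_a : List (List ℤ) := [
  [-1, 1, 1, -3, 1, -1, -3, 1, 1, 1, 1, -1, -1, -3, -3, -1, 1, -1, 1, 1, -1, 1, 1, 3],
  [1, -1, 3, -1, 3, 1, 3, -1, -1, -1, 3, 1, 1, -1, -1, 1, -1, 1, -1, -1, -3, -1, -1, 1],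
  [1, 3, -1, -1, -1, 1, -1, -1, -1, 3, -1, 1, 1, 3, -1, 1, -1, 1, -1, -1, -3, 3, -1, 1],
  [-3, -1, -1, -1, 3, 1, -1, 3, -1, -1, -1, 1, 1, 3, -1, 1, -1, 1, -1, -1, 1, -1, 3, 1],
  [1, 3, -1, 3, 3, -3, -1, -1, -1, -1, -1, 1, 1, -1, -1, 1, -1, 1, -1, 3, 1, -1, -1, 1],
  [-1, 1, 1, 1, -3, -1, 1, 1, -3, 1, 1, -1, -1, 1, 1, -1, 1, -1, -3, 1, -1, -3, 1, 3],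
  [-3, 3, -1, -1, -1, 1, -1, -1, 3, -1, 3, 1, 1, -1, 3, 1, -1, 1, -1, -1, 1, -1, -1, 1],
  [1, -1, -1, 3, -1, 1, -1, -1, 3, -1, -1, 1, 1, -1, -1, 1, 3, 1, -1, -1, -3, -1, 3, 1],
  [1, -1, -1, -1, -1, -3, 3, 3, 3, 3, -1, 1, 1, -1, -1, 1, -1, 1, -1, -1, 1, -1, -1, 1],
  [1, -1, 3, -1, -1, 1, -1, -1, 3, -1, -1, -3, 1, 3, -1, 1, -1, 1, -1, 3, 1, -1, -1, 1],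
  [1, 3, -1, -1, -1, 1, 3, -1, -1, -1, -1, -3, 1, -1, -1, 1, -1, 1, 3, -1, 1, -1, 3, 1],
  [-1, 1, 1, 1, 1, -1, 1, 1, 1, -3, -3, -1, -1, 1, 1, -1, 1, -1, 1, -3, -1, 1, -3, 3],
  [-1, 1, 1, 1, 1, -1, 1, 1, 1, 1, 1, -1, -5, 1, 1, 3, 1, 3, 1, 1, -1, 1, 1, -1],
  [-3, -1, 3, 3, -1, 1, -1, -1, -1, 3, -1, 1, 1, -1, -1, 1, -1, 1, 3, -1, 1, -1, -1, 1],
  [-3, -1, -1, -1, -1, 1, 3, -1, -1, -1, -1, 1, 1, -1, -1, 1, 3, 1, -1, 3, 1, 3, -1, 1],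
  [-1, 1, 1, 1, 1, -1, 1, 1, 1, 1, 1, -1, 3, 1, 1, 3, 1, -5, 1, 1, -1, 1, 1, -1],
  [1, -1, -1, -1, -1, 1, -1, 3, -1, -1, -1, 1, 1, -1, 3, 1, -1, 1, 3, 3, -3, -1, -1, 1],
  [-1, 1, 1, 1, 1, -1, 1, 1, 1, 1, 1, -1, 3, 1, 1, -5, 1, 3, 1, 1, -1, 1, 1, -1],
  [1, -1, -1, -1, -1, -3, -1, -1, -1, -1, 3, 1, 1, 3, -1, 1, 3, 1, 3, -1, 1, -1, -1, 1],
  [1, -1, -1, -1, 3, 1, -1, -1, -1, 3, -1, -3, 1, -1, 3, 1, 3, 1, -1, -1, 1, -1, -1, 1],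
  [-1, -3, -3, 1, 1, -1, 1, -3, 1, 1, 1, -1, -1, 1, 1, -1, -3, -1, 1, 1, -1, 1, 1, 3],
  [1, -1, 3, -1, -1, -3, -1, -1, -1, -1, -1, 1, 1, -1, 3, 1, -1, 1, -1, -1, 1, 3, 3, 1],
  [1, -1, -1, 3, -1, 1, -1, 3, -1, -1, 3, -3, 1, -1, -1, 1, -1, 1, -1, -1, 1, 3, -1, 1],
  [3, 1, 1, 1, 1, 3, 1, 1, 1, 1, 1, 3, -1, 1, 1, -1, 1, -1, 1, 1, 3, 1, 1, 3]]

theorem ok_a : Ok r_a r_a := Ok.of_bool (by decide +kernel)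

/-- rows of `b` -/
def r_b : List (List ℤ) := [
  [0, -4, 2, 0, 0, 2, 2, 2, 0, 0, -2, -2, -2, -2, 0, -2, 0, 2, 0, 0, 0, 0, 2, 2],
  [-4, 0, -2, 0, 0, -2, -2, 2, 0, 0, -2, -2, 2, 2, 0, 2, 0, 2, 0, 0, 0, 0, 2, 2],
  [2, -2, 0, 2, 2, 0, 0, 0, -2, -2, 0, 0, 0, 4, 2, 0, 2, 0, -2, 2, -2, 2, 0, 0],
  [0, 0, 2, 0, 0, -2, 2, -2, 0, 0, 2, -2, 2, -2, 0, 2, 0, 2, 0, 0, -4, 0, -2, 2],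
  [0, 0, 2, 0, -4, 2, 2, 2, 0, 0, 2, 2, 2, 2, 0, 2, 0, 2, 0, 0, 0, 0, 2, -2],
  [2, -2, 0, -2, 2, 0, 0, 0, -2, 2, 0, 0, 4, 0, -2, 0, -2, 0, 2, 2, 2, 2, 0, 0],
  [2, -2, 0, 2, 2, 0, 0, 0, 2, -2, 0, 0, 0, 0, 2, 4, -2, 0, 2, -2, 2, -2, 0, 0],
  [2, 2, 0, -2, 2, 0, 0, 0, 2, -2, 0, 0, 0, 0, -2, 0, 2, 4, -2, -2, 2, 2, 0, 0],
  [0, 0, -2, 0, 0, -2, 2, 2, 0, -4, 2, 2, 2, -2, 0, -2, 0, -2, 0, 0, 0, 0, 2, 2],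
  [0, 0, -2, 0, 0, 2, -2, -2, -4, 0, 2, 2, -2, -2, 0, 2, 0, 2, 0, 0, 0, 0, 2, 2],
  [-2, -2, 0, 2, 2, 0, 0, 0, 2, 2, 4, 0, 0, 0, -2, 0, 2, 0, -2, 2, 2, -2, 0, 0],
  [-2, -2, 0, -2, 2, 0, 0, 0, 2, 2, 0, 4, 0, 0, 2, 0, 2, 0, 2, -2, -2, 2, 0, 0],
  [-2, 2, 0, 2, 2, 4, 0, 0, 2, -2, 0, 0, 0, 0, -2, 0, -2, 0, 2, 2, -2, 2, 0, 0],
  [-2, 2, 4, -2, 2, 0, 0, 0, -2, -2, 0, 0, 0, 0, 2, 0, 2, 0, 2, 2, 2, -2, 0, 0],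
  [0, 0, 2, 0, 0, -2, 2, -2, 0, 0, -2, 2, -2, 2, -4, 2, 0, -2, 0, 0, 0, 0, 2, 2],
  [-2, 2, 0, 2, 2, 0, 4, 0, -2, 2, 0, 0, 0, 0, 2, 0, -2, 0, -2, -2, 2, 2, 0, 0],
  [0, 0, 2, 0, 0, -2, -2, 2, 0, 0, 2, 2, -2, 2, 0, -2, -4, 2, 0, 0, 0, 0, -2, 2],
  [2, 2, 0, 2, 2, 0, 0, 4, -2, 2, 0, 0, 0, 0, -2, 0, 2, 0, 2, -2, -2, -2, 0, 0],
  [0, 0, -2, 0, 0, 2, 2, -2, 0, 0, -2, 2, 2, 2, 0, -2, 0, 2, 0, 0, 0, -4, -2, 2],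
  [0, 0, 2, 0, 0, 2, -2, -2, 0, 0, 2, -2, 2, 2, 0, -2, 0, -2, 0, -4, 0, 0, 2, 2],
  [0, 0, -2, -4, 0, 2, 2, 2, 0, 0, 2, -2, -2, 2, 0, 2, 0, -2, 0, 0, 0, 0, -2, 2],
  [0, 0, 2, 0, 0, 2, -2, 2, 0, 0, -2, 2, 2, -2, 0, 2, 0, -2, -4, 0, 0, 0, -2, 2],
  [2, 2, 0, -2, 2, 0, 0, 0, 2, 2, 0, 0, 0, 0, 2, 0, -2, 0, -2, 2, -2, -2, 4, 0],
  [2, 2, 0, 2, -2, 0, 0, 0, 2, 2, 0, 0, 0, 0, 2, 0, 2, 0, 2, 2, 2, 2, 0, 4]]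

theorem ok_b : Ok r_b r_b := Ok.of_bool (by decide +kernel)

/-- rows of `x1` -/
def r_x1 : List (List ℤ) := [
  [1, 1, 1, -1, -3, 1, -3, 1, -1, -3, -1, 3, 1, 3, -1, -1, -1, 1, 1, 1, 1, 1, 1, 1],
  [-1, -1, -1, 5, -1, -1, -1, -1, 1, -1, 1, 1, -1, 1, 1, 1, -3, -1, -1, -1, -1, -1, -1, 3],
  [-3, 1, 1, -1, 1, 1, 1, 1, -1, 1, -1, -1, 1, 3, 3, -1, -1, 1, 1, -3, 1, -3, 1, 1],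
  [1, 1, -3, -1, 1, 1, 1, 1, -1, -3, -1, -1, 1, -1, 3, 3, -1, 1, 1, 1, 1, 1, -3, 1],
  [-1, -1, -1, 1, 3, -1, -1, -1, 1, -1, 1, 1, -1, 1, 1, 1, 1, -1, 3, -1, 3, 3, 3, -1],
  [-1, -1, 3, 1, 3, 3, -1, 3, 1, -1, 1, 1, -1, 1, 1, 1, 1, -1, -1, 3, -1, -1, -1, -1],
  [1, 1, -3, -1, 1, 1, 1, 1, 3, 1, -1, -1, 1, 3, -1, -1, -1, -3, -3, 1, 1, 1, 1, 1],
  [-1, -1, -1, -3, -1, -1, -1, -1, 1, -1, 1, 1, -1, 1, 1, 1, 5, -1, -1, -1, -1, -1, -1, 3],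
  [1, -3, 1, -1, -3, 1, 1, 1, 3, 1, -1, -1, -3, -1, 3, -1, -1, 1, 1, 1, 1, 1, 1, 1],
  [-1, -1, -1, 1, -1, 3, -1, -1, 1, 3, 1, 1, 3, 1, 1, 1, 1, 3, -1, -1, -1, 3, -1, -1],
  [1, 1, 1, -1, 1, 1, 1, 1, -1, 1, -1, 3, -3, -1, -1, 3, -1, 1, -3, -3, 1, 1, 1, 1],
  [1, -3, -3, -1, 1, 1, 1, 1, -1, 1, 3, 3, 1, -1, -1, -1, -1, 1, 1, 1, 1, -3, 1, 1],
  [3, -1, 3, 1, -1, -1, 3, -1, 1, -1, 1, 1, 3, 1, 1, 1, 1, -1, -1, -1, 3, -1, -1, -1],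
  [-1, 3, -1, 1, -1, -1, 3, -1, 1, -1, 1, 1, -1, 1, 1, 1, 1, 3, -1, 3, -1, -1, 3, -1],
  [1, 1, 1, -1, 1, 1, -3, -3, 3, 1, -1, -1, 1, -1, -1, 3, -1, 1, 1, 1, 1, -3, 1, 1],
  [-3, 1, 1, -1, -3, 1, 1, 1, -1, 1, 3, -1, 1, -1, -1, 3, -1, -3, 1, 1, 1, 1, 1, 1],
  [3, 3, -1, 1, -1, -1, -1, 3, 1, 3, 1, 1, -1, 1, 1, 1, 1, -1, 3, -1, -1, -1, -1, -1],
  [-3, 1, 1, -1, 1, -3, 1, 1, 3, 1, -1, 3, 1, -1, -1, -1, -1, 1, 1, 1, 1, 1, -3, 1],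
  [1, 1, 1, -1, 1, 1, 1, 1, 3, -3, 3, -1, 1, -1, -1, -1, -1, 1, 1, -3, -3, 1, 1, 1],
  [1, -3, 1, -1, 1, -3, 1, 1, -1, 1, -1, -1, 1, 3, -1, 3, -1, 1, 1, 1, -3, 1, 1, 1],
  [1, 1, 1, -1, 1, -3, -3, 1, -1, 1, 3, -1, 1, -1, 3, -1, -1, 1, -3, 1, 1, 1, 1, 1],
  [1, 1, 1, -1, 1, 1, 1, -3, -1, 1, 3, -1, -3, 3, -1, -1, -1, 1, 1, 1, 1, 1, -3, 1],
  [1, 1, 1, -1, 1, 1, 1, -3, -1, 1, -1, 3, 1, -1, 3, -1, -1, -3, 1, 1, -3, 1, 1, 1],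
  [1, 1, 1, 3, 1, 1, 1, 1, -1, 1, -1, -1, 1, -1, -1, -1, 3, 1, 1, 1, 1, 1, 1, 5]]

/-- columns of `x1` -/
def c_x1 : List (List ℤ) := [
  [1, -1, -3, 1, -1, -1, 1, -1, 1, -1, 1, 1, 3, -1, 1, -3, 3, -3, 1, 1, 1, 1, 1, 1],
  [1, -1, 1, 1, -1, -1, 1, -1, -3, -1, 1, -3, -1, 3, 1, 1, 3, 1, 1, -3, 1, 1, 1, 1],
  [1, -1, 1, -3, -1, 3, -3, -1, 1, -1, 1, -3, 3, -1, 1, 1, -1, 1, 1, 1, 1, 1, 1, 1],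
  [-1, 5, -1, -1, 1, 1, -1, -3, -1, 1, -1, -1, 1, 1, -1, -1, 1, -1, -1, -1, -1, -1, -1, 3],
  [-3, -1, 1, 1, 3, 3, 1, -1, -3, -1, 1, 1, -1, -1, 1, -3, -1, 1, 1, 1, 1, 1, 1, 1],
  [1, -1, 1, 1, -1, 3, 1, -1, 1, 3, 1, 1, -1, -1, 1, 1, -1, -3, 1, -3, -3, 1, 1, 1],
  [-3, -1, 1, 1, -1, -1, 1, -1, 1, -1, 1, 1, 3, 3, -3, 1, -1, 1, 1, 1, -3, 1, 1, 1],
  [1, -1, 1, 1, -1, 3, 1, -1, 1, -1, 1, 1, -1, -1, -3, 1, 3, 1, 1, 1, 1, -3, -3, 1],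
  [-1, 1, -1, -1, 1, 1, 3, 1, 3, 1, -1, -1, 1, 1, 3, -1, 1, 3, 3, -1, -1, -1, -1, -1],
  [-3, -1, 1, -3, -1, -1, 1, -1, 1, 3, 1, 1, -1, -1, 1, 1, 3, 1, -3, 1, 1, 1, 1, 1],
  [-1, 1, -1, -1, 1, 1, -1, 1, -1, 1, -1, 3, 1, 1, -1, 3, 1, -1, 3, -1, 3, 3, -1, -1],
  [3, 1, -1, -1, 1, 1, -1, 1, -1, 1, 3, 3, 1, 1, -1, -1, 1, 3, -1, -1, -1, -1, 3, -1],
  [1, -1, 1, 1, -1, -1, 1, -1, -3, 3, -3, 1, 3, -1, 1, 1, -1, 1, 1, 1, 1, -3, 1, 1],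
  [3, 1, 3, -1, 1, 1, 3, 1, -1, 1, -1, -1, 1, 1, -1, -1, 1, -1, -1, 3, -1, 3, -1, -1],
  [-1, 1, 3, 3, 1, 1, -1, 1, 3, 1, -1, -1, 1, 1, -1, -1, 1, -1, -1, -1, 3, -1, 3, -1],
  [-1, 1, -1, 3, 1, 1, -1, 1, -1, 1, 3, -1, 1, 1, 3, 3, 1, -1, -1, 3, -1, -1, -1, -1],
  [-1, -3, -1, -1, 1, 1, -1, 5, -1, 1, -1, -1, 1, 1, -1, -1, 1, -1, -1, -1, -1, -1, -1, 3],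
  [1, -1, 1, 1, -1, -1, -3, -1, 1, 3, 1, 1, -1, 3, 1, -3, -1, 1, 1, 1, 1, 1, -3, 1],
  [1, -1, 1, 1, 3, -1, -3, -1, 1, -1, -3, 1, -1, -1, 1, 1, 3, 1, 1, 1, -3, 1, 1, 1],
  [1, -1, -3, 1, -1, 3, 1, -1, 1, -1, -3, 1, -1, 3, 1, 1, -1, 1, -3, 1, 1, 1, 1, 1],
  [1, -1, 1, 1, 3, -1, 1, -1, 1, -1, 1, 1, 3, -1, 1, 1, -1, 1, -3, -3, 1, 1, -3, 1],
  [1, -1, -3, 1, 3, -1, 1, -1, 1, 3, 1, -3, -1, -1, -3, 1, -1, 1, 1, 1, 1, 1, 1, 1],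
  [1, -1, 1, -3, 3, -1, 1, -1, 1, -1, 1, 1, -1, 3, 1, 1, -1, -3, 1, 1, 1, -3, 1, 1],
  [1, 3, 1, 1, -1, -1, 1, 3, 1, -1, 1, 1, -1, -1, 1, 1, -1, 1, 1, 1, 1, 1, 1, 5]]

theorem ok_x1 : Ok r_x1 c_x1 := Ok.of_bool (by decide +kernel)

/-- rows of `v1` -/
def r_v1 : List (List ℤ) := [
  [0, 0, 0, 0, -2, 2, -2, 2, -2, -2, -2, 2, 2, 0, -2, -2, -2, 2, 0, 2, 0, 0, 2, 2],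
  [0, 0, 0, 0, -2, -2, 2, 2, -2, -2, 2, -2, -2, 0, 2, 2, -2, 2, 0, -2, 0, 0, 2, 2],
  [0, 0, 0, 0, -2, 2, -2, -2, 2, 2, 2, -2, 2, 0, 2, -2, -2, -2, 0, -2, 0, 0, 2, 2],
  [0, 0, 0, 0, 2, -2, -2, 2, 2, -2, 2, -2, 2, 0, -2, 2, -2, -2, 0, 2, 0, 0, -2, 2],
  [-2, -2, -2, 2, 4, 0, 0, 0, 0, 0, 0, 0, 0, -2, 0, 0, 0, 0, 2, 0, 2, 2, 4, 0],
  [2, -2, 2, -2, 0, 4, 0, 0, 0, 0, 0, 0, 0, -2, 0, 4, 0, 0, 2, 0, -2, 2, 0, 0],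
  [-2, 2, -2, -2, 0, 0, 4, 0, 0, 0, 0, 0, 4, 2, 0, 0, 0, 0, 2, 0, -2, 2, 0, 0],
  [2, 2, -2, 2, 0, 0, 0, 4, 0, 4, 0, 0, 0, -2, 0, 0, 0, 0, 2, 0, -2, -2, 0, 0],
  [-2, -2, 2, 2, 0, 0, 0, 0, 4, 0, 0, 0, 0, 2, 0, 0, 0, 4, 2, 0, -2, -2, 0, 0],
  [-2, -2, 2, -2, 0, 0, 0, 4, 0, 4, 0, 0, 0, 2, 0, 0, 0, 0, -2, 0, 2, 2, 0, 0],
  [-2, 2, 2, 2, 0, 0, 0, 0, 0, 0, 4, 4, 0, -2, 0, 0, 0, 0, -2, 0, -2, 2, 0, 0],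
  [2, -2, -2, -2, 0, 0, 0, 0, 0, 0, 4, 4, 0, 2, 0, 0, 0, 0, 2, 0, 2, -2, 0, 0],
  [2, -2, 2, 2, 0, 0, 4, 0, 0, 0, 0, 0, 4, -2, 0, 0, 0, 0, -2, 0, 2, -2, 0, 0],
  [0, 0, 0, 0, -2, -2, 2, -2, 2, 2, -2, 2, -2, 0, -2, 2, -2, -2, 0, 2, 0, 0, 2, 2],
  [-2, 2, 2, -2, 0, 0, 0, 0, 0, 0, 0, 0, 0, -2, 4, 0, 0, 0, 2, 4, 2, -2, 0, 0],
  [-2, 2, -2, 2, 0, 4, 0, 0, 0, 0, 0, 0, 0, 2, 0, 4, 0, 0, -2, 0, 2, -2, 0, 0],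
  [-2, -2, -2, -2, 0, 0, 0, 0, 0, 0, 0, 0, 0, -2, 0, 0, 4, 0, -2, 0, -2, -2, 0, 4],
  [2, 2, -2, -2, 0, 0, 0, 0, 4, 0, 0, 0, 0, -2, 0, 0, 0, 4, -2, 0, 2, 2, 0, 0],
  [0, 0, 0, 0, 2, 2, 2, 2, 2, -2, -2, 2, -2, 0, 2, -2, -2, -2, 0, -2, 0, 0, -2, 2],
  [2, -2, -2, 2, 0, 0, 0, 0, 0, 0, 0, 0, 0, 2, 4, 0, 0, 0, -2, 4, -2, 2, 0, 0],
  [0, 0, 0, 0, 2, -2, -2, -2, -2, 2, -2, 2, 2, 0, 2, 2, -2, 2, 0, -2, 0, 0, -2, 2],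
  [0, 0, 0, 0, 2, 2, 2, -2, -2, 2, 2, -2, -2, 0, -2, -2, -2, 2, 0, 2, 0, 0, -2, 2],
  [2, 2, 2, -2, 4, 0, 0, 0, 0, 0, 0, 0, 0, 2, 0, 0, 0, 0, -2, 0, -2, -2, 4, 0],
  [2, 2, 2, 2, 0, 0, 0, 0, 0, 0, 0, 0, 0, 2, 0, 0, 4, 0, 2, 0, 2, 2, 0, 4]]

theorem ok_v1 : Ok r_v1 r_v1 := Ok.of_bool (by decide +kernel)

/-- rows of `g7` -/
def r_g7 : List (List ℤ) := [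
  [4, 0, -2, -2, 2, 0, -2, 2, 0, 0, 0, 2, 4, 0, 0, 0, 0, 0, 0, 0, -2, 2, 0, 0],
  [-2, -2, 0, 0, 0, 2, 0, 0, 2, 2, 2, 0, 2, -2, 2, -2, -2, -2, -2, -2, 0, 0, 2, 2],
  [-2, 2, 0, 0, 0, -2, 0, 0, 2, 2, -2, 0, 2, -2, -2, -2, -2, 2, 2, 2, 0, 0, -2, 2],
  [2, -2, 0, 0, 0, -2, 0, 0, -2, 2, 2, 0, -2, -2, 2, 2, -2, -2, 2, 2, 0, 0, -2, 2],
  [-2, 2, 0, 0, 0, -2, 0, 0, -2, -2, -2, 0, 2, 2, 2, 2, -2, -2, -2, 2, 0, 0, 2, 2],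
  [2, -2, 0, 0, 0, -2, 0, 0, 2, -2, 2, 0, -2, 2, -2, -2, -2, 2, -2, 2, 0, 0, 2, 2],
  [0, 0, 2, -2, 2, 0, -2, -2, 4, 0, 0, 2, 0, 0, 0, 4, 0, 0, 0, 0, 2, -2, 0, 0],
  [0, 0, 2, 2, 2, 4, -2, 2, 0, 0, 0, -2, 0, 0, 0, 0, 0, 0, 0, 4, -2, -2, 0, 0],
  [2, 2, 0, 0, 0, 2, 0, 0, 2, -2, -2, 0, -2, 2, 2, -2, -2, -2, 2, -2, 0, 0, -2, 2],
  [0, 0, -2, 2, -2, 0, 2, 2, 4, 0, 0, -2, 0, 0, 0, 4, 0, 0, 0, 0, -2, 2, 0, 0],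
  [0, 0, 2, -2, -2, 0, -2, 2, 0, 4, 0, -2, 0, 4, 0, 0, 0, 0, 0, 0, 2, 2, 0, 0],
  [2, 2, 0, 0, 0, 2, 0, 0, -2, 2, -2, 0, -2, -2, -2, 2, -2, 2, -2, -2, 0, 0, 2, 2],
  [0, 0, -2, 2, -2, 0, -2, 2, 0, 0, 0, 2, 0, 0, 4, 0, 0, 4, 0, 0, 2, -2, 0, 0],
  [-2, -2, 0, 0, 0, 2, 0, 0, -2, -2, 2, 0, 2, 2, -2, 2, -2, 2, 2, -2, 0, 0, -2, 2],
  [0, 0, 2, -2, 2, 0, 2, -2, 0, 0, 0, -2, 0, 0, 4, 0, 0, 4, 0, 0, -2, 2, 0, 0],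
  [0, 4, 2, 2, -2, 0, -2, -2, 0, 0, 4, 2, 0, 0, 0, 0, 0, 0, 0, 0, -2, 2, 0, 0],
  [0, 0, -2, -2, -2, 0, -2, -2, 0, 0, 0, -2, 0, 0, 0, 0, 4, 0, 0, 0, -2, -2, 0, 4],
  [0, 0, 2, -2, -2, 0, 2, 2, 0, 0, 0, 2, 0, 0, 0, 0, 0, 0, 4, 0, -2, -2, 4, 0],
  [0, 0, -2, 2, 2, 0, -2, -2, 0, 0, 0, -2, 0, 0, 0, 0, 0, 0, 4, 0, 2, 2, 4, 0],
  [0, 0, -2, -2, -2, 4, 2, -2, 0, 0, 0, 2, 0, 0, 0, 0, 0, 0, 0, 4, 2, 2, 0, 0],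
  [0, 4, -2, -2, 2, 0, 2, 2, 0, 0, 4, -2, 0, 0, 0, 0, 0, 0, 0, 0, 2, -2, 0, 0],
  [0, 0, -2, 2, 2, 0, 2, -2, 0, 4, 0, 2, 0, 4, 0, 0, 0, 0, 0, 0, -2, -2, 0, 0],
  [4, 0, 2, 2, -2, 0, 2, -2, 0, 0, 0, -2, 4, 0, 0, 0, 0, 0, 0, 0, 2, -2, 0, 0],
  [0, 0, 2, 2, 2, 0, 2, 2, 0, 0, 0, 2, 0, 0, 0, 0, 4, 0, 0, 0, 2, 2, 0, 4]]

/-- columns of `g7` -/
def c_g7 : List (List ℤ) := [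
  [4, -2, -2, 2, -2, 2, 0, 0, 2, 0, 0, 2, 0, -2, 0, 0, 0, 0, 0, 0, 0, 0, 4, 0],
  [0, -2, 2, -2, 2, -2, 0, 0, 2, 0, 0, 2, 0, -2, 0, 4, 0, 0, 0, 0, 4, 0, 0, 0],
  [-2, 0, 0, 0, 0, 0, 2, 2, 0, -2, 2, 0, -2, 0, 2, 2, -2, 2, -2, -2, -2, -2, 2, 2],
  [-2, 0, 0, 0, 0, 0, -2, 2, 0, 2, -2, 0, 2, 0, -2, 2, -2, -2, 2, -2, -2, 2, 2, 2],
  [2, 0, 0, 0, 0, 0, 2, 2, 0, -2, -2, 0, -2, 0, 2, -2, -2, -2, 2, -2, 2, 2, -2, 2],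
  [0, 2, -2, -2, -2, -2, 0, 4, 2, 0, 0, 2, 0, 2, 0, 0, 0, 0, 0, 4, 0, 0, 0, 0],
  [-2, 0, 0, 0, 0, 0, -2, -2, 0, 2, -2, 0, -2, 0, 2, -2, -2, 2, -2, 2, 2, 2, 2, 2],
  [2, 0, 0, 0, 0, 0, -2, 2, 0, 2, 2, 0, 2, 0, -2, -2, -2, 2, -2, -2, 2, -2, -2, 2],
  [0, 2, 2, -2, -2, 2, 4, 0, 2, 4, 0, -2, 0, -2, 0, 0, 0, 0, 0, 0, 0, 0, 0, 0],
  [0, 2, 2, 2, -2, -2, 0, 0, -2, 0, 4, 2, 0, -2, 0, 0, 0, 0, 0, 0, 0, 4, 0, 0],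
  [0, 2, -2, 2, -2, 2, 0, 0, -2, 0, 0, -2, 0, 2, 0, 4, 0, 0, 0, 0, 4, 0, 0, 0],
  [2, 0, 0, 0, 0, 0, 2, -2, 0, -2, -2, 0, 2, 0, -2, 2, -2, 2, -2, 2, -2, 2, -2, 2],
  [4, 2, 2, -2, 2, -2, 0, 0, -2, 0, 0, -2, 0, 2, 0, 0, 0, 0, 0, 0, 0, 0, 4, 0],
  [0, -2, -2, -2, 2, 2, 0, 0, 2, 0, 4, -2, 0, 2, 0, 0, 0, 0, 0, 0, 0, 4, 0, 0],
  [0, 2, -2, 2, 2, -2, 0, 0, 2, 0, 0, -2, 4, -2, 4, 0, 0, 0, 0, 0, 0, 0, 0, 0],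
  [0, -2, -2, 2, 2, -2, 4, 0, -2, 4, 0, 2, 0, 2, 0, 0, 0, 0, 0, 0, 0, 0, 0, 0],
  [0, -2, -2, -2, -2, -2, 0, 0, -2, 0, 0, -2, 0, -2, 0, 0, 4, 0, 0, 0, 0, 0, 0, 4],
  [0, -2, 2, -2, -2, 2, 0, 0, -2, 0, 0, 2, 4, 2, 4, 0, 0, 0, 0, 0, 0, 0, 0, 0],
  [0, -2, 2, 2, -2, -2, 0, 0, 2, 0, 0, -2, 0, 2, 0, 0, 0, 4, 4, 0, 0, 0, 0, 0],
  [0, -2, 2, 2, 2, 2, 0, 4, -2, 0, 0, -2, 0, -2, 0, 0, 0, 0, 0, 4, 0, 0, 0, 0],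
  [-2, 0, 0, 0, 0, 0, 2, -2, 0, -2, 2, 0, 2, 0, -2, -2, -2, -2, 2, 2, 2, -2, 2, 2],
  [2, 0, 0, 0, 0, 0, -2, -2, 0, 2, 2, 0, -2, 0, 2, 2, -2, -2, 2, 2, -2, -2, -2, 2],
  [0, 2, -2, -2, 2, 2, 0, 0, -2, 0, 0, 2, 0, -2, 0, 0, 0, 4, 4, 0, 0, 0, 0, 0],
  [0, 2, 2, 2, 2, 2, 0, 0, 2, 0, 0, 2, 0, 2, 0, 0, 4, 0, 0, 0, 0, 0, 0, 4]]

theorem ok_g7 : Ok r_g7 c_g7 := Ok.of_bool (by decide +kernel)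

/-- rows of `g11` -/
def r_g11 : List (List ℤ) := [
  [1, 1, 1, 1, -1, 1, -1, 1, 1, 1, 3, 1, 1, -1, 1, 1, 1, 3, -5, 1, 1, 1, -1, -1],
  [-1, -1, 3, -1, 1, -1, 1, -1, -1, 3, 1, -1, -1, -3, -1, -1, -1, 1, 1, 3, 3, -1, 1, 1],
  [1, 1, -3, 1, -1, 1, -1, 1, 1, 1, -1, -3, 1, -1, -3, -3, 1, -1, -1, 1, 1, 1, -1, 3],
  [-1, -1, -1, 3, 1, -1, 1, -1, -1, 3, 1, 3, -1, 1, -1, -1, 3, 1, 1, -1, -1, -1, -3, 1],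
  [-1, 3, -1, -1, 1, 3, 1, -1, -1, -1, 1, -1, -1, 1, 3, -1, -1, 1, 1, 3, -1, -1, -3, 1],
  [-1, -1, -1, 3, 1, -1, -3, -1, 3, -1, 1, -1, -1, 1, -1, 3, -1, 1, 1, 3, -1, -1, 1, 1],
  [3, -1, -1, -1, 1, -1, 1, -1, -1, -1, 1, -1, -1, 1, -1, 3, -1, 1, 1, -1, 3, 3, -3, 1],
  [-1, -1, 3, -1, 1, -1, 1, 3, 3, -1, 1, -1, 3, 1, -1, -1, -1, 1, 1, -1, -1, -1, -3, 1],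
  [-1, 3, -1, -1, 1, -1, 1, -1, 3, -1, 1, 3, -1, -3, -1, -1, -1, 1, 1, -1, -1, 3, 1, 1],
  [3, -1, -1, 3, 1, -1, 1, 3, -1, -1, 1, -1, -1, -3, 3, -1, -1, 1, 1, -1, -1, -1, 1, 1],
  [-1, -1, -1, -1, 1, -1, -3, -1, -1, 3, 1, -1, 3, 1, 3, -1, -1, 1, 1, -1, -1, 3, 1, 1],
  [1, 1, 1, 1, -1, 1, -1, -3, 1, 1, -1, 1, 1, -1, 1, 1, -3, -1, -1, -3, 1, -3, -1, 3],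
  [3, -1, -1, -1, -3, -1, 1, -1, -1, -1, 1, 3, 3, 1, -1, -1, -1, 1, 1, 3, -1, -1, 1, 1],
  [-1, -1, -1, -1, 1, 3, -3, 3, -1, -1, 1, 3, -1, 1, -1, -1, -1, 1, 1, -1, 3, -1, 1, 1],
  [1, 1, 1, 1, -1, 1, -1, 1, 1, 1, 3, 1, 1, -1, 1, 1, 1, -5, 3, 1, 1, 1, -1, -1],
  [3, 3, 3, -1, 1, -1, -3, -1, -1, -1, 1, -1, -1, 1, -1, -1, 3, 1, 1, -1, -1, -1, 1, 1],
  [-1, 3, -1, -1, -3, -1, 1, 3, -1, 3, 1, -1, -1, 1, -1, 3, -1, 1, 1, -1, -1, -1, 1, 1],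
  [-1, -1, -1, -1, -3, -1, 1, -1, 3, -1, 1, -1, -1, 1, 3, -1, 3, 1, 1, -1, 3, -1, 1, 1],
  [-1, -1, 3, 3, -3, 3, 1, -1, -1, -1, 1, -1, -1, 1, -1, -1, -1, 1, 1, -1, -1, 3, 1, 1],
  [-1, -1, -1, -1, 1, 3, 1, -1, -1, -1, 1, -1, 3, -3, -1, 3, 3, 1, 1, -1, -1, -1, 1, 1],
  [-3, 1, 1, 1, -1, -3, -1, 1, -3, -3, -1, 1, 1, -1, 1, 1, 1, -1, -1, 1, 1, 1, -1, 3],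
  [1, -3, 1, -3, -1, 1, -1, 1, 1, 1, -1, 1, -3, -1, 1, 1, 1, -1, -1, 1, -3, 1, -1, 3],
  [1, 1, 1, 1, -1, 1, -1, 1, 1, 1, -5, 1, 1, -1, 1, 1, 1, 3, 3, 1, 1, 1, -1, -1],
  [1, 1, 1, 1, 3, 1, 3, 1, 1, 1, -1, 1, 1, 3, 1, 1, 1, -1, -1, 1, 1, 1, 3, 3]]

/-- columns of `g11` -/
def c_g11 : List (List ℤ) := [
  [1, -1, 1, -1, -1, -1, 3, -1, -1, 3, -1, 1, 3, -1, 1, 3, -1, -1, -1, -1, -3, 1, 1, 1],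
  [1, -1, 1, -1, 3, -1, -1, -1, 3, -1, -1, 1, -1, -1, 1, 3, 3, -1, -1, -1, 1, -3, 1, 1],
  [1, 3, -3, -1, -1, -1, -1, 3, -1, -1, -1, 1, -1, -1, 1, 3, -1, -1, 3, -1, 1, 1, 1, 1],
  [1, -1, 1, 3, -1, 3, -1, -1, -1, 3, -1, 1, -1, -1, 1, -1, -1, -1, 3, -1, 1, -3, 1, 1],
  [-1, 1, -1, 1, 1, 1, 1, 1, 1, 1, 1, -1, -3, 1, -1, 1, -3, -3, -3, 1, -1, -1, -1, 3],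
  [1, -1, 1, -1, 3, -1, -1, -1, -1, -1, -1, 1, -1, 3, 1, -1, -1, -1, 3, 3, -3, 1, 1, 1],
  [-1, 1, -1, 1, 1, -3, 1, 1, 1, 1, -3, -1, 1, -3, -1, -3, 1, 1, 1, 1, -1, -1, -1, 3],
  [1, -1, 1, -1, -1, -1, -1, 3, -1, 3, -1, -3, -1, 3, 1, -1, 3, -1, -1, -1, 1, 1, 1, 1],
  [1, -1, 1, -1, -1, 3, -1, 3, 3, -1, -1, 1, -1, -1, 1, -1, -1, 3, -1, -1, -3, 1, 1, 1],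
  [1, 3, 1, 3, -1, -1, -1, -1, -1, -1, 3, 1, -1, -1, 1, -1, 3, -1, -1, -1, -3, 1, 1, 1],
  [3, 1, -1, 1, 1, 1, 1, 1, 1, 1, 1, -1, 1, 1, 3, 1, 1, 1, 1, 1, -1, -1, -5, -1],
  [1, -1, -3, 3, -1, -1, -1, -1, 3, -1, -1, 1, 3, 3, 1, -1, -1, -1, -1, -1, 1, 1, 1, 1],
  [1, -1, 1, -1, -1, -1, -1, 3, -1, -1, 3, 1, 3, -1, 1, -1, -1, -1, -1, 3, 1, -3, 1, 1],
  [-1, -3, -1, 1, 1, 1, 1, 1, -3, -3, 1, -1, 1, 1, -1, 1, 1, 1, 1, -3, -1, -1, -1, 3],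
  [1, -1, -3, -1, 3, -1, -1, -1, -1, 3, 3, 1, -1, -1, 1, -1, -1, 3, -1, -1, 1, 1, 1, 1],
  [1, -1, -3, -1, -1, 3, 3, -1, -1, -1, -1, 1, -1, -1, 1, -1, 3, -1, -1, 3, 1, 1, 1, 1],
  [1, -1, 1, 3, -1, -1, -1, -1, -1, -1, -1, -3, -1, -1, 1, 3, -1, 3, -1, 3, 1, 1, 1, 1],
  [3, 1, -1, 1, 1, 1, 1, 1, 1, 1, 1, -1, 1, 1, -5, 1, 1, 1, 1, 1, -1, -1, 3, -1],
  [-5, 1, -1, 1, 1, 1, 1, 1, 1, 1, 1, -1, 1, 1, 3, 1, 1, 1, 1, 1, -1, -1, 3, -1],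
  [1, 3, 1, -1, 3, 3, -1, -1, -1, -1, -1, -3, 3, -1, 1, -1, -1, -1, -1, -1, 1, 1, 1, 1],
  [1, 3, 1, -1, -1, -1, 3, -1, -1, -1, -1, 1, -1, 3, 1, -1, -1, 3, -1, -1, 1, -3, 1, 1],
  [1, -1, 1, -1, -1, -1, 3, -1, 3, -1, 3, -3, -1, -1, 1, -1, -1, -1, 3, -1, 1, 1, 1, 1],
  [-1, 1, -1, -3, -3, 1, -3, -3, 1, 1, 1, -1, 1, 1, -1, 1, 1, 1, 1, 1, -1, -1, -1, 3],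
  [-1, 1, 3, 1, 1, 1, 1, 1, 1, 1, 1, 3, 1, 1, -1, 1, 1, 1, 1, 1, 3, 3, -1, 3]]

theorem ok_g11 : Ok r_g11 c_g11 := Ok.of_bool (by decide +kernel)

/-- rows of `t1` -/
def r_t1 : List (List ℤ) := [
  [0, -2, 2, 0, -2, 0, -2, 0, -2, 2, 0, 0, 2, 0, 2, 0, 0, 0, 2, 2, 0, -2, -4, 2],
  [-2, 4, 0, 2, 0, 2, 0, -2, 0, 0, -2, 2, 0, 2, 0, 2, 2, -2, 0, 0, 2, 0, -2, 0],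
  [2, 0, 0, 2, 4, -2, 0, -2, 0, 0, 2, 2, 0, -2, 0, 2, 2, 2, 0, 0, -2, 0, -2, 0],
  [0, 2, 2, 0, -2, -4, 2, 0, -2, -2, 0, 0, -2, 0, 2, 0, 0, 0, 2, -2, 0, 2, 0, 2],
  [-2, 0, 4, -2, 0, 2, 0, -2, 0, 0, 2, 2, 0, -2, 0, -2, 2, 2, 0, 0, 2, 0, 2, 0],
  [0, 2, -2, -4, 2, 0, -2, 0, -2, 2, 0, 0, 2, 0, -2, 0, 0, 0, 2, -2, 0, 2, 0, 2],
  [-2, 0, 0, 2, 0, -2, 0, 2, 0, 0, 2, 2, 4, 2, 0, -2, 2, -2, 0, 0, -2, 0, 2, 0],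
  [0, -2, -2, 0, -2, 0, 2, -4, 2, -2, 0, 0, 2, 0, -2, 0, 0, 0, 2, 2, 0, 2, 0, 2],
  [-2, 0, 0, -2, 0, -2, 0, 2, 4, 0, 2, 2, 0, 2, 0, 2, -2, 2, 0, 0, 2, 0, -2, 0],
  [2, 0, 0, -2, 0, 2, 0, -2, 0, 0, 2, 2, 0, 2, 4, 2, -2, -2, 0, 0, -2, 0, 2, 0],
  [0, -2, 2, 0, 2, 0, 2, 0, 2, 2, 0, 0, -2, 0, -2, 0, 0, -4, 2, -2, 0, -2, 0, 2],
  [0, 2, 2, 0, 2, 0, 2, 0, 2, 2, 0, -4, 2, 0, 2, 0, 0, 0, 2, 2, 0, 2, 0, -2],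
  [2, 0, 0, -2, 0, 2, 4, 2, 0, 0, -2, 2, 0, 2, 0, -2, 2, 2, 0, 0, -2, 0, -2, 0],
  [0, 2, -2, 0, -2, 0, 2, 0, 2, 2, 0, 0, 2, -4, 2, 0, 0, 0, -2, -2, 0, -2, 0, 2],
  [2, 0, 0, 2, 0, -2, 0, -2, 0, 4, -2, 2, 0, 2, 0, -2, -2, 2, 0, 0, 2, 0, 2, 0],
  [0, 2, 2, 0, -2, 0, -2, 0, 2, 2, 0, 0, -2, 0, -2, 0, 0, 0, -2, 2, -4, 2, 0, 2],
  [0, 2, 2, 0, 2, 0, 2, 0, -2, -2, 0, 0, 2, 0, -2, 0, -4, 0, -2, 2, 0, -2, 0, 2],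
  [0, -2, 2, 0, 2, 0, -2, 0, 2, -2, -4, 0, 2, 0, 2, 0, 0, 0, -2, -2, 0, 2, 0, 2],
  [2, 0, 0, 2, 0, 2, 0, 2, 0, 0, 2, 2, 0, -2, 0, -2, -2, -2, 0, 0, 2, 4, -2, 0],
  [2, 0, 0, -2, 0, -2, 0, 2, 0, 0, -2, 2, 0, -2, 0, 2, 2, -2, 0, 4, 2, 0, 2, 0],
  [0, 2, -2, 0, 2, 0, -2, 0, 2, -2, 0, 0, -2, 0, 2, -4, 0, 0, 2, 2, 0, -2, 0, 2],
  [-2, 0, 0, 2, 0, 2, 0, 2, 0, 0, -2, 2, 0, -2, 0, 2, -2, 2, 4, 0, -2, 0, 2, 0],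
  [-4, -2, -2, 0, 2, 0, 2, 0, -2, 2, 0, 0, -2, 0, 2, 0, 0, 0, -2, 2, 0, 2, 0, 2],
  [2, 0, 0, 2, 0, 2, 0, 2, 0, 0, 2, -2, 0, 2, 0, 2, 2, 2, 0, 0, 2, 0, 2, 4]]

theorem ok_t1 : Ok r_t1 r_t1 := Ok.of_bool (by decide +kernel)

/-- The letters. -/
def M : ℕ → List (List ℤ)
  | 0 => r_a
  | 1 => r_b
  | 2 => r_x1
  | 3 => r_v1
  | 4 => r_g7
  | 5 => r_g11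
  | _ => r_t1

/-- The elements of `Co0`. -/
def e : ℕ → Co0
  | 0 => mk ok_a
  | 1 => mk ok_b
  | 2 => mk ok_x1
  | 3 => mk ok_v1
  | 4 => mk ok_g7
  | 5 => mk ok_g11
  | _ => mk ok_t1

theorem rep : ∀ i, Rep (e i) (M i)
  | 0 => rep_mk ok_a
  | 1 => rep_mk ok_b
  | 2 => rep_mk ok_x1
  | 3 => rep_mk ok_v1
  | 4 => rep_mk ok_g7
  | 5 => rep_mk ok_g11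
  | _ + 6 => rep_mk ok_t1

theorem fixV : (List.range 7).all (fun i => eqL (ap (M i) Cfsg.Agent.H573.Spor.Co0.lV) Cfsg.Agent.H573.Spor.Co0.lV) = true := by
  decide +kernel

/-- `n` copies of a word. -/
def rp (n : ℕ) (w : List ℕ) : List ℕ := (List.replicate n w).flatten

/-- The words equal to `1`. -/
def rels : List (List ℕ) :=
  [[0, 0], [1, 1], [0, 1, 0, 1], rp 5 [2], [0, 2, 0] ++ rp 4 [2], [1, 2, 1] ++ rp 4 [2], [3, 3], [3, 2, 3, 2],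
    rp 7 [4], [3, 4, 3] ++ rp 6 [4], rp 11 [5], [0, 5, 0] ++ rp 10 [5], [6, 6], rp 21 [0, 6]]

/-- The words different from `1`. -/
def nrels : List (List ℕ) := [[0], [1], [0, 1], [2], [3], [4], [5], rp 7 [0, 6], rp 3 [0, 6]]

theorem rels_ok : rels.all (oneB M) = true := by decide +kernel

theorem nrels_ok : nrels.all (neB M) = true := by decide +kernel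

end Cfsg.Agent.H791.SK.Co3Dat
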