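import Cfsg.Agent.H738.SK.Transport
import Cfsg.Agent.H791.SK.Co3Dat
import Cfsg.Agent.H417.Two.Co3Seven
import Cfsg.Agent.CTwoTab.Co3
import Cfsg.Agent.BpSpor.CoThreeFive

/-!
# S3010 (Sidki pairs): the row `Co₃` (helper791)

* `2B` inverts an element of order 21, and there are no elements of order 42: `2B` is dead by (T0).
* `2A` inverts `x ∈ 5B`, `C(x) = 5 × A₅` contains a four-group, and a `2A`-involution is the only involution of its
  centralizer in the centralizer of an element of order 5; so all involutions of `C(x)` are in `2B`: dead by (T0).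
-/

set_option autoImplicit false
set_option linter.unusedVariables false
set_option linter.style.haveILetI false

universe u

open Subgroup Cfsg Cfsg.Agent.H282.SK Cfsg.Agent.H738.SK

namespace Cfsg.Agent.H791.SK.Co3

open Cfsg.Agent.SporRec.Co3.Chain (G3 isCo3_G3)
open Cfsg.Agent.SporRec.Co3.Ident (Z)
open Cfsg.Agent.SporRec.Co3.Fusion (tC mem_cent)
open Cfsg.Agent.SporadicStructure.Co0Matrix Cfsg.Agent.CoOneType.CoEval
open Cfsg.Agent.H791.SK.Co3Dat
open Cfsg.Agent.H573.Spor.Co0 (lV mem_Co3)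

/-! ### The elements -/

theorem mem_gen : ∀ i, ((e i : Co0) : Equiv.Perm leechLattice) ∈ Spor.Co3 := by
  have h := List.all_eq_true.1 fixV
  have h' : ∀ i < 7, eqL (ap (M i) lV) lV = true := fun i hi => h i (List.mem_range.2 hi)
  intro i
  by_cases hi : i < 7
  · exact mem_Co3 (rep i) (h' i hi)
  · have e1 : M i = M 6 := by
      match i, hi with
      | 0, hi => omega
      | 1, hi => omega
      | 2, hi => omega
      | 3, hi => omega
      | 4, hi => omega
      | 5, hi => omega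
      | n + 6, _ => rfl
    exact mem_Co3 (rep i) (by rw [e1]; exact h' 6 (by norm_num))

/-- the letters in `Co₃` -/
noncomputable def c (i : ℕ) : Spor.Co3 := ⟨_, mem_gen i⟩

/-- the letters in the model `G3` -/
noncomputable def s (i : ℕ) : G3 := Cfsg.Agent.SporRec.Co3.Model.equivCo3.symm (c i)

theorem coe_c (w : List ℕ) : (((w.map c).prod : Spor.Co3) : Equiv.Perm leechLattice) =
    (((w.map e).prod : Co0) : Equiv.Perm leechLattice) := by
  induction w with
  | nil => rfl
  | cons i w ih =>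
    rw [List.map_cons, List.prod_cons, List.map_cons, List.prod_cons, Subgroup.coe_mul, ih]
    rfl

theorem map_s (w : List ℕ) : (w.map s).prod = Cfsg.Agent.SporRec.Co3.Model.equivCo3.symm (w.map c).prod := by
  rw [map_list_prod, List.map_map]
  rfl

theorem rel {w : List ℕ} (hw : w ∈ rels) : (w.map s).prod = 1 := by
  have h := eq_one_of_oneB rep (List.all_eq_true.1 rels_ok w hw)
  have h1 : (w.map c).prod = 1 := by
    apply Subtype.ext
    rw [coe_c, h]
    rfl
  rw [map_s, h1, map_one]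

theorem nrel {w : List ℕ} (hw : w ∈ nrels) : (w.map s).prod ≠ 1 := by
  intro hcon
  rw [map_s, map_eq_one_iff _ (MulEquiv.injective _)] at hcon
  have h3 := ne_one_of_neB rep (List.all_eq_true.1 nrels_ok w hw)
  rw [map_prod_pr] at h3
  apply h3
  have h4 : (w.map e).prod = 1 := by
    apply Subtype.ext
    rw [← coe_c, hcon]
    rfl
  rw [h4]
  exact map_one _

theorem prod_rp (n : ℕ) (w : List ℕ) : ((rp n w).map s).prod = (w.map s).prod ^ n := by
  unfold rp
  induction n with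
  | zero => simp
  | succ n ih =>
    rw [List.replicate_succ, List.flatten_cons, List.map_append, List.prod_append, ih, pow_succ']

theorem a_sq : s 0 * s 0 = 1 := by
  have h := rel (w := [0, 0]) (by simp [rels])
  simpa using h

theorem b_sq : s 1 * s 1 = 1 := by
  have h := rel (w := [1, 1]) (by simp [rels])
  simpa using h

theorem ab_sq : s 0 * s 1 * (s 0 * s 1) = 1 := by
  have h := rel (w := [0, 1, 0, 1]) (by simp [rels])
  simpa [mul_assoc] using h

theorem x_five : s 2 ^ 5 = 1 := by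
  have h := rel (w := rp 5 [2]) (by simp [rels])
  rw [prod_rp] at h
  simpa using h

theorem ax : s 0 * s 2 * s 0 * s 2 ^ 4 = 1 := by
  have h := rel (w := [0, 2, 0] ++ rp 4 [2]) (by simp [rels])
  rw [List.map_append, List.prod_append, prod_rp] at h
  simpa [mul_assoc] using h

theorem bx : s 1 * s 2 * s 1 * s 2 ^ 4 = 1 := by
  have h := rel (w := [1, 2, 1] ++ rp 4 [2]) (by simp [rels])
  rw [List.map_append, List.prod_append, prod_rp] at h
  simpa [mul_assoc] using h

theorem v_sq : s 3 * s 3 = 1 := by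
  have h := rel (w := [3, 3]) (by simp [rels])
  simpa using h

theorem vx : s 3 * s 2 * s 3 * s 2 = 1 := by
  have h := rel (w := [3, 2, 3, 2]) (by simp [rels])
  simpa [mul_assoc] using h

theorem y_seven : s 4 ^ 7 = 1 := by
  have h := rel (w := rp 7 [4]) (by simp [rels])
  rw [prod_rp] at h
  simpa using h

theorem vy : s 3 * s 4 * s 3 * s 4 ^ 6 = 1 := by
  have h := rel (w := [3, 4, 3] ++ rp 6 [4]) (by simp [rels])
  rw [List.map_append, List.prod_append, prod_rp] at h
  simpa [mul_assoc] using h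

theorem u_eleven : s 5 ^ 11 = 1 := by
  have h := rel (w := rp 11 [5]) (by simp [rels])
  rw [prod_rp] at h
  simpa using h

theorem au : s 0 * s 5 * s 0 * s 5 ^ 10 = 1 := by
  have h := rel (w := [0, 5, 0] ++ rp 10 [5]) (by simp [rels])
  rw [List.map_append, List.prod_append, prod_rp] at h
  simpa [mul_assoc] using h

theorem t_sq : s 6 * s 6 = 1 := by
  have h := rel (w := [6, 6]) (by simp [rels])
  simpa using h

theorem at_pow : (s 0 * s 6) ^ 21 = 1 := by
  have h := rel (w := rp 21 [0, 6]) (by simp [rels])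
  rw [prod_rp] at h
  simpa using h

theorem a_ne : s 0 ≠ 1 := by
  have h := nrel (w := [0]) (by simp [nrels])
  simpa using h

theorem b_ne : s 1 ≠ 1 := by
  have h := nrel (w := [1]) (by simp [nrels])
  simpa using h

theorem ab_ne : s 0 * s 1 ≠ 1 := by
  have h := nrel (w := [0, 1]) (by simp [nrels])
  simpa using h

theorem x_ne : s 2 ≠ 1 := by
  have h := nrel (w := [2]) (by simp [nrels])
  simpa using h

theorem v_ne : s 3 ≠ 1 := by
  have h := nrel (w := [3]) (by simp [nrels])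
  simpa using h

theorem y_ne : s 4 ≠ 1 := by
  have h := nrel (w := [4]) (by simp [nrels])
  simpa using h

theorem u_ne : s 5 ≠ 1 := by
  have h := nrel (w := [5]) (by simp [nrels])
  simpa using h

theorem at_ne7 : (s 0 * s 6) ^ 7 ≠ 1 := by
  have h := nrel (w := rp 7 [0, 6]) (by simp [nrels])
  rw [prod_rp] at h
  simpa using h

theorem at_ne3 : (s 0 * s 6) ^ 3 ≠ 1 := by
  have h := nrel (w := rp 3 [0, 6]) (by simp [nrels])
  rw [prod_rp] at h
  simpa using h

/-! ### Relations in usable form -/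

theorem comm_of {G : Type*} [Group G] {a x : G} {n : ℕ} (ha : a * a = 1) (hx : x ^ (n + 1) = 1)
    (h : a * x * a * x ^ n = 1) : Commute a x := by
  have h1 : x ^ n = x⁻¹ := eq_inv_of_mul_eq_one_left (by rw [← pow_succ, hx])
  have h2 : a⁻¹ = a := by rw [inv_eq_iff_mul_eq_one]; exact ha
  rw [h1, mul_inv_eq_one] at h
  show a * x = x * a
  calc a * x = a * x * (a * a) := by rw [ha, mul_one]
    _ = a * x * a * a := by group
    _ = x * a := by rw [h]

theorem comm_ab : Commute (s 0) (s 1) := by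
  have h1 : (s 0)⁻¹ = s 0 := by rw [inv_eq_iff_mul_eq_one]; exact a_sq
  have h2 : (s 1)⁻¹ = s 1 := by rw [inv_eq_iff_mul_eq_one]; exact b_sq
  have h := ab_sq
  rw [mul_eq_one_iff_eq_inv, mul_inv_rev, h1, h2] at h
  exact h

theorem comm_ax : Commute (s 0) (s 2) := comm_of a_sq x_five ax
theorem comm_bx : Commute (s 1) (s 2) := comm_of b_sq x_five bx
theorem comm_vy : Commute (s 3) (s 4) := comm_of v_sq y_seven vy
theorem comm_au : Commute (s 0) (s 5) := comm_of a_sq u_eleven au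

theorem inv_vx : s 3 * s 2 * (s 3)⁻¹ = (s 2)⁻¹ := by
  have h2 : (s 3)⁻¹ = s 3 := by rw [inv_eq_iff_mul_eq_one]; exact v_sq
  rw [h2]
  exact eq_inv_of_mul_eq_one_left vx

theorem inv_at : s 0 * (s 0 * s 6) * (s 0)⁻¹ = (s 0 * s 6)⁻¹ := by
  have h1 : (s 0)⁻¹ = s 0 := by rw [inv_eq_iff_mul_eq_one]; exact a_sq
  have h2 : (s 6)⁻¹ = s 6 := by rw [inv_eq_iff_mul_eq_one]; exact t_sq
  rw [mul_inv_rev, h1, h2, ← mul_assoc, a_sq, one_mul]

theorem orderOf_x : orderOf (s 2) = 5 := by
  haveI : Fact (Nat.Prime 5) := ⟨by norm_num⟩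
  exact orderOf_eq_prime x_five x_ne

theorem orderOf_at : orderOf (s 0 * s 6) = 21 := by
  refine orderOf_eq_of_pow_and_pow_div_prime (by norm_num) at_pow ?_
  intro p hp hpd
  have h1 : p ∣ 3 * 7 := hpd
  rcases (Nat.Prime.dvd_mul hp).1 h1 with h | h
  · have := (Nat.prime_dvd_prime_iff_eq hp Nat.prime_three).1 h
    subst this
    exact at_ne7
  · have := (Nat.prime_dvd_prime_iff_eq hp (by norm_num)).1 h
    subst this
    exact at_ne3

/-! ### The classes -/

theorem card_Z : Nat.card (centralizer ({Z} : Set G3)) = 2903040 := by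
  obtain ⟨w, D⟩ := Cfsg.Agent.CTwoTab.Co3.exists_data
  obtain ⟨π, N⟩ := D.ns
  exact Cfsg.Agent.CTwoTab.Co3.card_of_NS N

/-- `a` is not conjugate to `Z` -/
theorem a_not_Z {g : G3} (h : s 0 = g * Z * g⁻¹) : False := by
  haveI : Finite G3 := Cfsg.Agent.H555.TwoSp.finite_G3
  haveI : Fact (Nat.Prime 11) := ⟨by norm_num⟩
  have h1 : orderOf (g⁻¹ * s 5 * g) = 11 := by
    apply orderOf_eq_prime
    · have := conj_pow (a := g⁻¹) (b := s 5) (i := 11)
      rw [inv_inv] at this
      rw [this, u_eleven]; group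
    · intro h2
      apply u_ne
      calc s 5 = g * (g⁻¹ * s 5 * g) * g⁻¹ := by group
        _ = 1 := by rw [h2]; group
  have h2 : (g⁻¹ * s 5 * g) * Z = Z * (g⁻¹ * s 5 * g) := by
    have h3 := comm_au.eq
    rw [h] at h3
    calc (g⁻¹ * s 5 * g) * Z = g⁻¹ * (s 5 * (g * Z * g⁻¹)) * g := by group
      _ = g⁻¹ * (g * Z * g⁻¹ * s 5) * g := by rw [h3]
      _ = _ := by group
  have h3 := Subgroup.orderOf_dvd_natCard _ (mem_centralizer_singleton_iff.2 h2)
  rw [h1, card_Z] at h3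
  norm_num at h3

/-- `v` is not conjugate to `w` -/
theorem v_not_w {w : G3} (D : Cfsg.Agent.CTwoTab.Co3.Data G3 Spor.M12 Z w) {g : G3} (h : s 3 = g * w * g⁻¹) :
    False := by
  haveI : Finite G3 := Cfsg.Agent.H555.TwoSp.finite_G3
  have hw2 : w * w = 1 := by
    have h1 : w = g⁻¹ * s 3 * g := by rw [h]; group
    calc w * w = (g⁻¹ * s 3 * g) * (g⁻¹ * s 3 * g) := by rw [← h1]
      _ = g⁻¹ * (s 3 * s 3) * g := by group
      _ = 1 := by rw [v_sq]; group
  obtain ⟨f, hf, hk⟩ := D.hom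
  set y : G3 := g⁻¹ * s 4 * g with hy
  have hyw : y * w = w * y := by
    have h3 := comm_vy.eq
    rw [h] at h3
    calc (g⁻¹ * s 4 * g) * w = g⁻¹ * (s 4 * (g * w * g⁻¹)) * g := by group
      _ = g⁻¹ * (g * w * g⁻¹ * s 4) * g := by rw [h3]
      _ = w * (g⁻¹ * s 4 * g) := by group
  have hy7 : y ^ 7 = 1 := by
    have := conj_pow (a := g⁻¹) (b := s 4) (i := 7)
    rw [inv_inv] at this
    rw [hy, this, y_seven]; group
  have hy1 : y ≠ 1 := by
    intro h2
    apply y_ne
    calc s 4 = g * (g⁻¹ * s 4 * g) * g⁻¹ := by group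
      _ = 1 := by rw [← hy, h2]; group
  have hm : y ∈ centralizer ({w} : Set G3) := mem_centralizer_singleton_iff.2 hyw
  have h4 : f ⟨y, hm⟩ ^ 7 = 1 := by
    rw [← map_pow]
    have : (⟨y, hm⟩ : centralizer ({w} : Set G3)) ^ 7 = 1 := Subtype.ext hy7
    rw [this, map_one]
  have h5 : f ⟨y, hm⟩ = 1 := by
    have h6 : orderOf (f ⟨y, hm⟩) ∣ 7 := orderOf_dvd_of_pow_eq_one h4
    have h7 : orderOf (f ⟨y, hm⟩) ∣ 95040 := by
      rw [← D.card]
      exact orderOf_dvd_natCard _
    have h8 : orderOf (f ⟨y, hm⟩) ∣ Nat.gcd 7 95040 := Nat.dvd_gcd h6 h7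
    have h9 : Nat.gcd 7 95040 = 1 := by norm_num
    rw [h9, Nat.dvd_one] at h8
    exact orderOf_eq_one_iff.1 h8
  rcases hk _ h5 with h6 | h6
  · exact hy1 (congrArg Subtype.val h6)
  · have h7 : y = w := h6
    apply hy1
    have h8 : y * y = 1 := by rw [h7]; exact hw2
    have h9 : y ^ 7 = (y * y) ^ 3 * y := by rw [← pow_two, ← pow_mul, ← pow_succ]
    rw [h9, h8, one_pow, one_mul] at hy7
    exact hy7

theorem orderOf_eq_two {G : Type*} [Group G] {t : G} (h : t * t = 1) (h1 : t ≠ 1) : orderOf t = 2 :=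
  orderOf_eq_prime (by rw [pow_two]; exact h) h1

/-- every involution is conjugate to `a` or to `v`; in the second case to `Z`. -/
theorem cls {t : G3} (h : t * t = 1) (h1 : t ≠ 1) :
    IsConj (s 0) t ∨ (IsConj (s 3) t ∧ ∃ g, t = g * Z * g⁻¹) := by
  obtain ⟨w, D⟩ := Cfsg.Agent.CTwoTab.Co3.exists_data
  have hZ : ∀ {g : G3}, t = g * Z * g⁻¹ → IsConj (s 0) t ∨ (IsConj (s 3) t ∧ ∃ g, t = g * Z * g⁻¹) := by
    intro g hg
    obtain ⟨k, hk | hk⟩ := D.cls _ (orderOf_eq_two v_sq v_ne)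
    · right
      refine ⟨isConj_iff.2 ⟨g * k⁻¹, ?_⟩, g, hg⟩
      rw [hg, hk]; group
    · exact (v_not_w D hk).elim
  have hw : ∀ {g : G3}, t = g * w * g⁻¹ → IsConj (s 0) t ∨ (IsConj (s 3) t ∧ ∃ g, t = g * Z * g⁻¹) := by
    intro g hg
    obtain ⟨k, hk | hk⟩ := D.cls _ (orderOf_eq_two a_sq a_ne)
    · exact (a_not_Z hk).elim
    · left
      refine isConj_iff.2 ⟨g * k⁻¹, ?_⟩
      rw [hg, hk]; group
  obtain ⟨g, hg | hg⟩ := D.cls _ (orderOf_eq_two h h1)
  · exact hZ hg
  · exact hw hg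

/-! ### An involution that is alone in its centralizer -/

theorem four_false {H : Type*} [Group H] [Finite H] {z a b : H} (hz : z * z = 1) (hz1 : z ≠ 1)
    (hu : ∀ i : H, i * i = 1 → i ≠ 1 → Commute i z → i = z) (ha : a * a = 1) (ha1 : a ≠ 1)
    (hb : b * b = 1) (hb1 : b ≠ 1) (hab : Commute a b) (hne : a ≠ b) : False := by
  haveI : Fact (Nat.Prime 2) := ⟨Nat.prime_two⟩
  have hcyc : ∀ {i : H}, i * i = 1 → i ≠ 1 → IsPGroup 2 (zpowers i) := by
    intro i hi hi1
    rw [IsPGroup.iff_card]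
    exact ⟨1, by rw [Nat.card_zpowers, pow_one]; exact orderOf_eq_two hi hi1⟩
  obtain ⟨P, hP⟩ := (hcyc hz hz1).exists_le_sylow
  have hn : zpowers a ≤ normalizer ((zpowers b : Subgroup H) : Set H) := by
    rw [zpowers_le]
    apply Subgroup.centralizer_le_normalizer
    rw [mem_centralizer_iff]
    rintro _ ⟨k, rfl⟩
    exact ((hab.symm.zpow_left k)).eq
  have hab2 : IsPGroup 2 (zpowers a ⊔ zpowers b : Subgroup H) :=
    IsPGroup.to_sup_of_normal_right' (hcyc ha ha1) (hcyc hb hb1) hn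
  obtain ⟨Q, hQ⟩ := hab2.exists_le_sylow
  obtain ⟨g, hg⟩ := MulAction.exists_smul_eq H Q P
  have hmem : ∀ {i : H}, i ∈ Q → g * i * g⁻¹ ∈ P := by
    intro i hi
    rw [← hg]
    exact ⟨i, hi, rfl⟩
  have haP : g * a * g⁻¹ ∈ P := hmem (hQ (mem_sup_left (mem_zpowers a)))
  have hbP : g * b * g⁻¹ ∈ P := hmem (hQ (mem_sup_right (mem_zpowers b)))
  have hzP : z ∈ P := hP (mem_zpowers z)
  haveI : Nontrivial (P : Subgroup H) := ⟨⟨⟨z, hzP⟩, 1, fun h => hz1 (congrArg Subtype.val h)⟩⟩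
  have hcen := P.isPGroup'.center_nontrivial
  have hcp : IsPGroup 2 (center (P : Subgroup H)) := P.isPGroup'.to_subgroup _
  obtain ⟨c, hc⟩ : ∃ c : center (P : Subgroup H), orderOf c = 2 := by
    apply exists_prime_orderOf_dvd_card'
    obtain ⟨n, hn⟩ := IsPGroup.iff_card.1 hcp
    rw [hn]
    apply dvd_pow_self
    rintro rfl
    rw [pow_zero] at hn
    have : Nat.card (center (P : Subgroup H)) ≠ 1 := by
      have := Finite.one_lt_card_iff_nontrivial.2 hcen
      omega
    exact this hn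
  have hcc : ∀ i ∈ P, Commute i ((c : (P : Subgroup H)) : H) := by
    intro i hi
    have := mem_center_iff.1 c.2 ⟨i, hi⟩
    exact congrArg Subtype.val this
  have hc2 : ((c : (P : Subgroup H)) : H) * ((c : (P : Subgroup H)) : H) = 1 := by
    have h0 : c ^ 2 = 1 := by
      have h3 := pow_orderOf_eq_one c
      rwa [hc] at h3
    have h1 : c * c = 1 := by rw [← pow_two, h0]
    exact congrArg (fun d : center (P : Subgroup H) => ((d : (P : Subgroup H)) : H)) h1
  have hc1 : ((c : (P : Subgroup H)) : H) ≠ 1 := by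
    intro h
    have h1 : c = 1 := Subtype.ext (Subtype.ext h)
    rw [h1, orderOf_one] at hc
    omega
  have hcz := hu _ hc2 hc1 (hcc z hzP).symm
  rw [hcz] at hcc
  have hconj : ∀ {i : H}, i * i = 1 → i ≠ 1 → g * i * g⁻¹ ∈ P → g * i * g⁻¹ = z := by
    intro i hi hi1 hiP
    refine hu _ ?_ ?_ (hcc _ hiP)
    · calc g * i * g⁻¹ * (g * i * g⁻¹) = g * (i * i) * g⁻¹ := by group
        _ = 1 := by rw [hi]; group
    · intro h
      apply hi1
      calc i = g⁻¹ * (g * i * g⁻¹) * g := by group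
        _ = 1 := by rw [h]; group
  have h1 := hconj ha ha1 haP
  have h2 := hconj hb hb1 hbP
  apply hne
  have h3 : g * a * g⁻¹ = g * b * g⁻¹ := by rw [h1, h2]
  exact mul_left_cancel (mul_right_cancel h3)

/-! ### The two classes are dead -/

theorem dead_a : Dead (⊤ : Subgroup G3) (s 0) := by
  haveI : Finite G3 := Cfsg.Agent.H555.TwoSp.finite_G3
  intro V h ha
  obtain ⟨t, ht, ht1, hc⟩ := h.t0 ha (x := s 0 * s 6) (by rw [orderOf_at]; decide) inv_at
  apply Cfsg.Agent.H417.Two.Co3Seven.no42 (t * (s 0 * s 6))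
  rw [hc.orderOf_mul_eq_mul_orderOf_of_coprime, orderOf_eq_two (h.sq ht) ht1, orderOf_at]
  rw [orderOf_eq_two (h.sq ht) ht1, orderOf_at]
  norm_num

theorem dead_v : Dead (⊤ : Subgroup G3) (s 3) := by
  haveI : Finite G3 := Cfsg.Agent.H555.TwoSp.finite_G3
  intro V h hv
  obtain ⟨t, ht, ht1, hc⟩ := h.t0 hv (x := s 2) (by rw [orderOf_x]; decide) inv_vx
  rcases cls (h.sq ht) ht1 with h1 | ⟨-, g, hg⟩
  · exact dead_a.of_isConj h1 V h ht
  -- `t` is conjugate to `Z`
  obtain ⟨π, N⟩ := Cfsg.Agent.KFacts.Co3D4.exists_NS_G3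
  have hconj : ∀ {i : G3}, Commute i t → Commute (g⁻¹ * i * g) Z := by
    intro i hi
    have h3 := hi.eq
    rw [hg] at h3
    show (g⁻¹ * i * g) * Z = Z * (g⁻¹ * i * g)
    calc (g⁻¹ * i * g) * Z = g⁻¹ * (i * (g * Z * g⁻¹)) * g := by group
      _ = g⁻¹ * (g * Z * g⁻¹ * i) * g := by rw [h3]
      _ = _ := by group
  have hx5 : orderOf (g⁻¹ * s 2 * g) = 5 := by
    have : orderOf (g⁻¹ * s 2 * g) = orderOf (s 2) := by
      simpa using MulEquiv.orderOf_eq (MulAut.conj g⁻¹) (s 2)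
    rw [this, orderOf_x]
  have hu : ∀ i : G3, i * i = 1 → i ≠ 1 → Commute i t → Commute i (s 2) → i = t := by
    intro i hi hi1 hit hix
    have h2 := Cfsg.Agent.CpAutCoThreeFive.invol_unique N hx5 (hconj hc.symm).eq (y := g⁻¹ * i * g)
      (by
        calc g⁻¹ * i * g * (g⁻¹ * i * g) = g⁻¹ * (i * i) * g := by group
          _ = 1 := by rw [hi]; group)
      (by
        intro h
        apply hi1
        calc i = g * (g⁻¹ * i * g) * g⁻¹ := by group
          _ = 1 := by rw [h]; group)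
      (hconj hit).eq
      (by
        calc g⁻¹ * i * g * (g⁻¹ * s 2 * g) = g⁻¹ * (i * s 2) * g := by group
          _ = g⁻¹ * (s 2 * i) * g := by rw [hix.eq]
          _ = _ := by group)
    rw [hg, ← h2]; group
  let H : Subgroup G3 := centralizer ({s 2} : Set G3)
  have mH : ∀ {i : G3}, Commute i (s 2) → i ∈ H := fun hi => mem_centralizer_singleton_iff.2 hi.eq
  refine four_false (H := H) (z := ⟨t, mH hc⟩) (a := ⟨s 0, mH comm_ax⟩) (b := ⟨s 1, mH comm_bx⟩)
    (Subtype.ext (h.sq ht)) (fun h2 => ht1 (congrArg Subtype.val h2)) ?_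
    (Subtype.ext a_sq) (fun h2 => a_ne (congrArg Subtype.val h2))
    (Subtype.ext b_sq) (fun h2 => b_ne (congrArg Subtype.val h2))
    (Subtype.ext comm_ab.eq) ?_
  · rintro ⟨i, hi⟩ h2 h3 h4
    exact Subtype.ext (hu i (congrArg Subtype.val h2) (fun h5 => h3 (Subtype.ext h5))
      (congrArg Subtype.val h4.eq) (mem_centralizer_singleton_iff.1 hi))
  · intro h2
    have h3 : s 0 = s 1 := congrArg Subtype.val h2
    apply ab_ne
    rw [← h3]
    exact a_sq

/-- **Row `Co₃`.** -/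
theorem dead : DeadS.{u} (fun K _ => Cfsg.Spor.IsoCo3 K) := by
  haveI : Finite G3 := Cfsg.Agent.H555.TwoSp.finite_G3
  have hk : ∀ V : Subgroup G3, Cx V (⊤ : Subgroup G3) → False := by
    intro V h
    refine false_of_dead h fun t ht ht1 => ?_
    rcases cls ht ht1 with h1 | ⟨h1, -⟩
    · exact dead_a.of_isConj h1
    · exact dead_v.of_isConj h1
  intro G _ _ V K h hK
  obtain ⟨e⟩ := Cfsg.Agent.H143.RowCo3.equiv_G3 hK
  obtain ⟨V', h'⟩ := exists_of_inner h e
    (Cfsg.Agent.H143.RowCo3.inner Cfsg.Agent.H417.Two.Co3Seven.iso_G3)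
  exact hk V' h'

end Cfsg.Agent.H791.SK.Co3
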